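import Mathlib
import Cfsg.Agent.S3927

/-!
# A group `G = [G, α]` (`α` an involutory automorphism) is generated by the inverted elements of odd order
-/

set_option autoImplicit false

namespace Cfsg.Agent.InvJ

theorem closure_J {G : Type*} [Group G] [Finite G] (α : MulAut G) (hα : ∀ g, α (α g) = g)
    (hG : Subgroup.closure (Set.range (fun c : G => c * (α c)⁻¹)) = ⊤) :
    Subgroup.closure {g : G | Odd (orderOf g) ∧ α g = g⁻¹} = ⊤ := by
  have h := S3927.result α hG (Nat.card G + 1) (by omega)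
  rw [eq_top_iff, ← h]
  apply Subgroup.closure_mono
  rintro _ ⟨c, rfl⟩
  have h1 : ∀ (y : G), α y = y⁻¹ → ∀ k, (fun c : G => c * (α c)⁻¹)^[k] y = y ^ 2 ^ k := by
    intro y hy k
    induction k with
    | zero => simp
    | succ k ih =>
      rw [Function.iterate_succ_apply', ih]
      simp only [map_pow, hy, inv_pow, inv_inv]
      rw [← pow_add, pow_succ, mul_two]
  have h2 : α (c * (α c)⁻¹) = (c * (α c)⁻¹)⁻¹ := by simp [hα]
  rw [Function.iterate_succ_apply, h1 _ h2]
  set y := c * (α c)⁻¹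
  refine ⟨?_, by rw [map_pow, h2, inv_pow]⟩
  obtain ⟨a, b, hb, e⟩ := Nat.exists_eq_two_pow_mul_odd (orderOf_pos y).ne'
  have ha : a ≤ Nat.card G := by
    have h3 : 2 ^ a ≤ Nat.card G :=
      Nat.le_of_dvd Nat.card_pos ((Dvd.intro _ e.symm).trans (orderOf_dvd_natCard y))
    exact (Nat.lt_two_pow_self.le).trans h3
  refine hb.of_dvd_nat (orderOf_dvd_of_pow_eq_one ?_)
  rw [← pow_mul, ← orderOf_dvd_iff_pow_eq_one, e]
  exact Nat.mul_dvd_mul_right (pow_dvd_pow 2 ha) b

end Cfsg.Agent.InvJ
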